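import Cfsg.Agent.Lib.CosetEnum.HeInvol.Defs

/-!
# The checks on the orbit of sixteen-point sets
-/

set_option autoImplicit false
set_option maxRecDepth 100000
set_option maxHeartbeats 2000000

namespace Cfsg.Lib.CosetEnum.HeInvol

theorem edges0 : edgesOK 1300 0 = true := by decide +kernel
theorem edges1 : edgesOK 1300 1300 = true := by decide +kernel
theorem edges2 : edgesOK 1225 2600 = true := by decide +kernel

theorem sorted0 : sortedOK 1900 0 = true := by decide +kernel
theorem sorted1 : sortedOK 1925 1900 = true := by decide +kernel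

theorem fixed_ok : (fixedOK 2058 0 && beqW (node 0) ptsP && Nat.beq fixPts.length 42 &&
    suborbitOK HeS44.orb0 136 0 && suborbitOK HeS44.orb1 136 0 &&
    ptsP.all fun p => Nat.beq (hwalk [4] p) p &&
      ((Nat.blt (HeS44.pos0.getP p) 136 && Nat.beq (HeS44.orb0.getP (HeS44.pos0.getP p) / B / B) p) ||
        (Nat.blt (HeS44.pos1.getP p) 136 && Nat.beq (HeS44.orb1.getP (HeS44.pos1.getP p) / B / B) p))) = true := by
  decide +kernel

end Cfsg.Lib.CosetEnum.HeInvol
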