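import Cfsg.Agent.Lib.CosetEnum.HeInvol.OuterDefs

/-!
# The checks for the outer automorphisms of the Held group
-/

set_option autoImplicit false
set_option maxRecDepth 100000
set_option maxHeartbeats 2000000

namespace Cfsg.Lib.CosetEnum.HeInvol

theorem elems_ok : elemsOK = true := by decide +kernel
theorem conjWords_ok : conjWordsOK = true := by decide +kernel
theorem cand_ok : candOK = true := by decide +kernel
theorem excl0_ok : exclOK wordU candCode0 = true := by decide +kernel
theorem excl1_ok : exclOK wordU3 candCode1 = true := by decide +kernel
theorem out_ok : outOK = true := by decide +kernel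
theorem reps_ok : repsOK = true := by decide +kernel
theorem cycles_ok : cyclesOK = true := by decide +kernel
theorem onlyFixed_ok : onlyFixed 2058 0 = true := by decide +kernel
theorem sep0_ok : sepOK sepTab0 1 2058 0 = true := by decide +kernel
theorem sep1_ok : sepOK sepTab1 7 2058 0 = true := by decide +kernel
theorem sep2_ok : sepOK sepTab2 180 2058 0 = true := by decide +kernel

end Cfsg.Lib.CosetEnum.HeInvol
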