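import Cfsg.Agent.Lib.CosetEnum.HeInvol.Defs

/-!
# The checks on the tables of the centraliser
-/

set_option autoImplicit false
set_option maxRecDepth 100000
set_option maxHeartbeats 2000000

namespace Cfsg.Lib.CosetEnum.HeInvol

theorem letters_ok : (wordQ.all letters && wordL.all letters && hWords.all letters &&
    (hWords.all fun w => Nat.beq (hwalk w 0) 0) && Nat.beq wordQ.length 128 && Nat.beq wordL.length 168 &&
    sameW (wordQ.getD 0 []) [] && sameW (wordL.getD 0 []) []) = true := by decide +kernel

theorem stepQ0 : stepOK' wordQ matQ stepQ 6 128 0 = true := by decide +kernel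
theorem stepQ1 : stepOK' wordQ matQ stepQ 6 128 1 = true := by decide +kernel
theorem stepQ2 : stepOK' wordQ matQ stepQ 6 128 2 = true := by decide +kernel
theorem stepQ3 : stepOK' wordQ matQ stepQ 6 128 3 = true := by decide +kernel
theorem stepQ4 : stepOK' wordQ matQ stepQ 6 128 4 = true := by decide +kernel
theorem stepQ5 : stepOK' wordQ matQ stepQ 6 128 5 = true := by decide +kernel
theorem stepL0 : stepOK' wordL matL stepL 2 168 0 = true := by decide +kernel
theorem stepL1 : stepOK' wordL matL stepL 2 168 1 = true := by decide +kernel

theorem par_ok : (parOK parQ stepQ 6 128 && parOK parL stepL 2 168) = true := by decide +kernel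

theorem conj_ok : conjOK = true := by decide +kernel

theorem comm_ok : (([1, 2, 3, 4, 5, 6].all fun g =>
      sameW (wordQ.getD g [] ++ [4]) (4 :: wordQ.getD g [])) &&
    [1, 2].all fun g => sameW (wordL.getD g [] ++ [4]) (4 :: wordL.getD g [])) = true := by
  decide +kernel

theorem keys_ok : nodupB ((List.range 128).map (fun i => keyOf (wordQ.getD i [])) ++
    (List.range 167).map fun i => keyOf (wordL.getD (i + 1) [])) = true := by decide +kernel

theorem mats_ok : (Nat.beq (matQ.getD 0 0) 17043521 && Nat.beq (matL.getD 0 0) 17043521 &&
    nodupB ((List.range 128).map (fun i => matQ.getD i 0) ++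
      (List.range 167).map fun i => matL.getD (i + 1) 0)) = true := by decide +kernel

end Cfsg.Lib.CosetEnum.HeInvol
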