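import Cfsg.Agent.Lib.CosetEnum.HeInvol.IsoData
import Cfsg.Agent.Lib.CosetEnum.HeInvol.FixData
import Cfsg.Agent.Lib.CosetEnum.HeS44.Data

/-!
# Checks for the centraliser of an involution of the Held group
-/

set_option autoImplicit false

namespace Cfsg.Lib.CosetEnum.HeInvol

/-- Read a word in the table of the Held group. -/
noncomputable def hwalk (w : List Nat) (p : Nat) : Nat := twalk HeS44.tabP 7 w p

/-- The base. -/
def basePts : List Nat := [0, 1, 7, 180]

/-- All letters are generators. -/
def letters (w : List Nat) : Bool := w.all fun g => Nat.blt g 7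

/-- The two words give the same element. -/
noncomputable def sameW (u v : List Nat) : Bool :=
  basePts.all fun p => Nat.beq (hwalk u p) (hwalk v p)

/-- The bit `(i, j)` of a packed matrix. -/
def mbit (c i j : Nat) : Bool := Nat.testBit c (5 * i + j)

/-- `c` is the product of `a` and `b`. -/
def mmulOK (a b c : Nat) : Bool :=
  [0, 1, 2, 3, 4].all fun i => [0, 1, 2, 3, 4].all fun j =>
    mbit c i j == ((((mbit a i 0 && mbit b 0 j) ^^ (mbit a i 1 && mbit b 1 j)) ^^
      (mbit a i 2 && mbit b 2 j)) ^^ (mbit a i 3 && mbit b 3 j)) ^^ (mbit a i 4 && mbit b 4 j)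

/-- The packed matrix of the transvection. -/
def matS : Nat := 17043523

/-- Left multiplication by generator `g + 1` sends element `i` to element `step[g][i]`. -/
noncomputable def stepOK' (word : List (List Nat)) (mat : List Nat) (step : List (List Nat))
    (ng n g : Nat) : Bool :=
  Nat.blt g ng && (List.range n).all fun i => force ((step.getD g []).getD i 0) fun j =>
    Nat.blt j n && sameW (word.getD i [] ++ word.getD (g + 1) []) (word.getD j []) &&
      mmulOK (mat.getD (g + 1) 0) (mat.getD i 0) (mat.getD j 0)

/-- Every element comes from a parent. -/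
def parOK (par : List Nat) (step : List (List Nat)) (ng n : Nat) : Bool :=
  (List.range n).all fun i => Nat.beq i 0 ||
    (Nat.ble 1 (par.getD i 0 / 256) && Nat.ble (par.getD i 0 / 256) ng &&
      Nat.blt (par.getD i 0 % 256) i &&
      Nat.beq ((step.getD (par.getD i 0 / 256 - 1) []).getD (par.getD i 0 % 256) 0) i)

/-- The complement generators normalise. -/
noncomputable def conjOK : Bool :=
  [0, 1].all fun a => [0, 1, 2, 3, 4, 5].all fun g => force ((conjT.getD a []).getD g 0) fun j =>
    Nat.blt j 128 && sameW (wordQ.getD (g + 1) [] ++ wordL.getD (a + 1) [])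
        (wordL.getD (a + 1) [] ++ wordQ.getD j []) &&
      [0, 1, 2, 3, 4].all fun i => [0, 1, 2, 3, 4].all fun k =>
        (((((mbit (matL.getD (a + 1) 0) i 0 && mbit (matQ.getD (g + 1) 0) 0 k) ^^
          (mbit (matL.getD (a + 1) 0) i 1 && mbit (matQ.getD (g + 1) 0) 1 k)) ^^
          (mbit (matL.getD (a + 1) 0) i 2 && mbit (matQ.getD (g + 1) 0) 2 k)) ^^
          (mbit (matL.getD (a + 1) 0) i 3 && mbit (matQ.getD (g + 1) 0) 3 k)) ^^
          (mbit (matL.getD (a + 1) 0) i 4 && mbit (matQ.getD (g + 1) 0) 4 k)) ==
        (((((mbit (matQ.getD j 0) i 0 && mbit (matL.getD (a + 1) 0) 0 k) ^^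
          (mbit (matQ.getD j 0) i 1 && mbit (matL.getD (a + 1) 0) 1 k)) ^^
          (mbit (matQ.getD j 0) i 2 && mbit (matL.getD (a + 1) 0) 2 k)) ^^
          (mbit (matQ.getD j 0) i 3 && mbit (matL.getD (a + 1) 0) 3 k)) ^^
          (mbit (matQ.getD j 0) i 4 && mbit (matL.getD (a + 1) 0) 4 k))

/-- The images of the base under a word, packed. -/
noncomputable def keyOf (w : List Nat) : Nat :=
  basePts.foldl (fun acc p => acc * 4096 + hwalk w p) 0

/-- A list of numbers without repetitions. -/
def nodupB : List Nat → Bool
  | [] => true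
  | a :: l => (l.all fun b => !Nat.beq a b) && nodupB l

/-- The number of decoded entries of a packed list. -/
def unpack : Nat → Nat → List Nat
  | 0, _ => []
  | n + 1, c => (c % 4096) :: unpack n (c / 4096)

/-- The bit mask of a list. -/
def mask : List Nat → Nat
  | [] => 0
  | x :: l => Nat.lor (Nat.shiftLeft 1 x) (mask l)

/-- A node of the orbit. -/
noncomputable def node (i : Nat) : List Nat := force (nodeTab.get i) fun c => unpack 16 c

/-- Edges of the orbit. -/
noncomputable def edgesOK : Nat → Nat → Bool
  | 0, _ => true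
  | n + 1, i => force i fun i =>
      (Nat.beq i 0 || force (parTab.get i) fun q =>
        Nat.blt (q % 4096) i && Nat.blt (q / 4096) 5 &&
          beqW ((node (q % 4096)).map (hwalk (hWords.getD (q / 4096) []))) (node i)) &&
      edgesOK n (i + 1)

/-- The masks increase along the sorting. -/
noncomputable def sortedOK : Nat → Nat → Bool
  | 0, _ => true
  | n + 1, i => force i fun i =>
      Nat.beq (srtTab.get (posTab.get i)) i && Nat.blt (posTab.get i) 3825 &&
        (Nat.beq (i + 1) 3825 || Nat.blt (mask (node (srtTab.get i))) (mask (node (srtTab.get (i + 1))))) &&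
      sortedOK n (i + 1)

/-- The fixed points are the listed ones. -/
noncomputable def fixedOK : Nat → Nat → Bool
  | 0, _ => true
  | n + 1, i => force i fun i =>
      (!Nat.beq (hwalk [4] i) i || fixPts.any (Nat.beq i)) && fixedOK n (i + 1)

/-- The fixed points in one suborbit are among the sixteen. -/
noncomputable def suborbitOK (O : Tab) : Nat → Nat → Bool
  | 0, _ => true
  | n + 1, j => force j fun j => (force (O.getP j / B / B) fun x =>
      !Nat.beq (hwalk [4] x) x || ptsP.any (Nat.beq x)) && suborbitOK O n (j + 1)

end Cfsg.Lib.CosetEnum.HeInvol
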