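import Cfsg.Agent.Lib.CosetEnum.HeInvol.Defs
import Cfsg.Agent.Lib.CosetEnum.HeInvol.OuterData
import Cfsg.Agent.Lib.CosetEnum.Groups.He

/-!
# Checks for the outer automorphisms of the Held group
-/

set_option autoImplicit false

namespace Cfsg.Lib.CosetEnum.HeInvol

/-- Substitute three words and two inverses for five letters. -/
def letW (U H Y : List Nat) : Nat → List Nat
  | 0 => U
  | 1 => H
  | 2 => Y
  | 3 => U.reverse
  | _ => H.reverse

/-- A word in the three elements. -/
def subW (U H Y w : List Nat) : List Nat := w.flatMap (letW U H Y)

/-- The third power of the element of order seventeen. -/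
def wordU3 : List Nat := wordU ++ wordU ++ wordU

/-- The relations used. -/
def testWords : List (List Nat) := [[2, 0], [2, 0, 0], [2, 0, 0, 0], [2, 1], [2, 0, 2, 1], [2, 0, 2, 0, 0]]

/-- Their exponents. -/
def testOrd : List Nat := [17, 12, 12, 4, 12, 4]

/-- A power of a test word. -/
def testPow (U Y : List Nat) (j : Nat) : List Nat :=
  (List.replicate (testOrd.getD j 1) (subW U wordH Y (testWords.getD j []))).flatten

/-- Facts on the three elements. -/
noncomputable def elemsOK : Bool :=
  letters wordU && letters wordH && letters wordX && letters wordS && letters wordH2 && letters wordT &&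
  candWords.all letters && conjWords.all letters && outImages.all letters &&
  Nat.beq genWords.length 7 && Nat.beq outImages.length 7 &&
  Nat.beq candWords.length 128 && Nat.beq conjWords.length 168 &&
  ((List.range 7).all fun g => sameW (subW wordU wordH wordX (genWords.getD g [])) [g]) &&
  sameW (List.replicate 17 wordU).flatten [] && !sameW wordU [] &&
  sameW (wordH.reverse ++ wordU ++ wordH) (wordU ++ wordU) &&
  sameW (List.replicate 4 wordH).flatten wordS && sameW (wordH ++ wordH) wordH2 &&
  sameW (wordT.reverse ++ [4] ++ wordT) wordS &&
  sameW (wordX ++ wordH2) (wordH2 ++ wordX) && sameW (wordX ++ wordX) [] &&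
  [0, 1, 2, 3, 4, 5].all fun j => sameW (testPow wordU wordX j) []

/-- The conjugators commute and give distinct conjugates. -/
noncomputable def conjWordsOK : Bool :=
  (conjWords.all fun c => sameW (c ++ wordS) (wordS ++ c)) &&
    nodupB (conjWords.map fun c => keyOf (c.reverse ++ wordH2 ++ c))

/-- The candidates commute and are distinct. -/
noncomputable def candOK : Bool :=
  (candWords.all fun c => sameW (c ++ wordH2) (wordH2 ++ c)) && nodupB (candWords.map keyOf)

/-- All candidates but one are excluded. -/
noncomputable def exclOK (U : List Nat) (code : List Nat) : Bool :=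
  ((List.range 128).all fun i => force (code.getD i 0) fun c =>
    cond (Nat.beq c 0) (!sameW (candWords.getD i [] ++ candWords.getD i []) [])
      (Nat.beq c 7 || (Nat.blt c 7 && !sameW (testPow U (candWords.getD i []) (c - 1)) []))) &&
    Nat.ble ((List.range 128).filter fun i => Nat.beq (code.getD i 0) 7).length 1

/-- The images satisfy the relations. -/
noncomputable def outOK : Bool :=
  ((HePres.numbering.pairs ++ HePres.extra).all fun r =>
    (r.all fun g => Nat.blt g 7) && sameW (r.flatMap fun g => outImages.getD g []) []) &&
  ((List.range 7).all fun g => sameW (outImages.getD g [] ++ outImages.getD g []) []) &&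
  sameW (wordU.flatMap fun g => outImages.getD g []) wordU3 &&
  sameW (wordH.flatMap fun g => outImages.getD g []) wordH &&
  candWords.all fun c => !sameW (c.reverse ++ wordU ++ c) wordU3

/-- Membership in a suborbit. -/
noncomputable def memb (O Pos : Tab) (c z : Nat) : Bool :=
  Nat.blt (Pos.getP z) c && Nat.beq (O.getP (Pos.getP z) / B / B) z

/-- The label of a point. -/
noncomputable def labOf (z : Nat) : Nat :=
  cond (Nat.beq z 0) 4 (cond (memb HeS44.orb0 HeS44.pos0 136 z) 1
    (cond (memb HeS44.orb1 HeS44.pos1 136 z) 2 (cond (memb HeS44.orb2 HeS44.pos2 425 z) 3 0)))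

/-- Look up the word of a point. -/
def findW : List Nat → List (List Nat) → Nat → List Nat
  | p :: ps, w :: ws, x => cond (Nat.beq p x) w (findW ps ws x)
  | _, _, _ => []

/-- The relation of two points. -/
noncomputable def relOf (x y : Nat) : Nat := labOf (hwalk (findW repPts repWords x) y)

/-- The transversal words. -/
noncomputable def repsOK : Bool :=
  repPts.all fun x => letters (findW repPts repWords x) && Nat.beq (hwalk (findW repPts repWords x) x) 0

/-- A point of the cycles. -/
def cycPt (j i : Nat) : Nat := (cycles.getD j []).getD i 0

/-- The reference points. -/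
def refPts : List Nat := 0 :: (List.range 17).map (cycPt 0)

/-- The cycles, and the points telling them apart. -/
noncomputable def cyclesOK : Bool :=
  ((List.range 8).all fun j => ((List.range 16).all fun i => Nat.beq (hwalk wordU (cycPt j i)) (cycPt j (i + 1))) &&
    repPts.any (Nat.beq (cycPt j 0)) && Nat.blt (cycPt j 0) 2058) &&
  ((List.range 136).all fun k => (List.range 8).any fun j => (List.range 17).any fun i =>
    Nat.beq (cycPt j i) (HeS44.orb0.getP k / B / B)) &&
  memb HeS44.orb0 HeS44.pos0 136 (cycPt 0 0) &&
  ((List.range 8).all fun j => Nat.beq j 0 || (Nat.blt (cycWit.getD j 0) 17 &&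
    !Nat.beq (relOf (cycPt 0 0) (cycPt 0 (cycWit.getD j 0))) (relOf (cycPt j 0) (cycPt j (cycWit.getD j 0))))) &&
  refPts.all fun x => Nat.blt x 2058 && repPts.any (Nat.beq x)

/-- Only one point is fixed by the element of order seventeen. -/
noncomputable def onlyFixed : Nat → Nat → Bool
  | 0, _ => true
  | n + 1, v => force v fun v => (Nat.beq v 0 || !Nat.beq (hwalk wordU v) v) && onlyFixed n (v + 1)

/-- The index of a point telling `v` from a base point. -/
noncomputable def sepIdx (T : Tab) (v : Nat) : Nat :=
  force (T.get (v / 16)) fun c => Nat.shiftRight c (8 * (v % 16)) % 256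

/-- A base point is told apart. -/
noncomputable def sepOK (T : Tab) (z : Nat) : Nat → Nat → Bool
  | 0, _ => true
  | n + 1, v => force v fun v =>
      (Nat.beq v z || force (sepIdx T v) fun i => force (refPts.getD i 0) fun x =>
        Nat.blt i 18 && !Nat.beq (relOf x v) (relOf x z)) && sepOK T z n (v + 1)

end Cfsg.Lib.CosetEnum.HeInvol
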